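import Groth.Agent.BddRes.Tower
import Groth.Agent.ModTensor.FreeOn

/-!
# Coproducts of the `j_{U!} O_U` cover all modules
-/

universe u

open CategoryTheory Category Limits Opposite

namespace Groth.Agent.BddRes

/-- A coproduct over a sum of index types. -/
noncomputable def biprodSigmaIso {A : Type*} [Category A] [Preadditive A] {ι κ : Type u} (F : ι ⊕ κ → A)
    [HasCoproduct F] [HasCoproduct fun i => F (Sum.inl i)] [HasCoproduct fun k => F (Sum.inr k)]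
    [HasBinaryBiproduct (∐ fun i => F (Sum.inl i)) (∐ fun k => F (Sum.inr k))] :
    (∐ fun i => F (Sum.inl i)) ⊞ (∐ fun k => F (Sum.inr k)) ≅ ∐ F where
  hom := biprod.desc (Sigma.desc fun i => Sigma.ι F (Sum.inl i)) (Sigma.desc fun k => Sigma.ι F (Sum.inr k))
  inv := Sigma.desc fun j => match j with
    | Sum.inl i => Sigma.ι (fun i => F (Sum.inl i)) i ≫ biprod.inl
    | Sum.inr k => Sigma.ι (fun k => F (Sum.inr k)) k ≫ biprod.inr
  hom_inv_id := by
    refine biprod.hom_ext' _ _ (Sigma.hom_ext _ _ fun i => ?_) (Sigma.hom_ext _ _ fun k => ?_) <;> simp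
  inv_hom_id := Sigma.hom_ext _ _ fun j => by cases j <;> simp

variable {C : Type u} [SmallCategory C] {J : GrothendieckTopology C} (O : Sheaf J CommRingCat.{u})

/-- Being a coproduct of `j_{U!} O_U`. -/
def IsFreeSum (X : ModSite.Mod O) : Prop :=
  ∃ (ι : Type u) (U : ι → C), Nonempty (X ≅ ∐ fun j => ModSite.freeOn O (U j))

variable [HasCoproducts.{u} (ModSite.Mod O)]

theorem covers_freeSum : Covers (IsFreeSum O) where
  cover X := by
    let ι : Type u := Σ U : C, (ModSite.freeOn O U ⟶ X)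
    refine ⟨∐ fun a : ι => ModSite.freeOn O a.1, Sigma.desc (fun a : ι => a.2), ⟨fun φ ψ h => ?_⟩,
      ι, fun a => a.1, ⟨Iso.refl _⟩⟩
    refine ModTensor.isSeparating_freeOn (O := O) Set.univ (fun U => ⟨PUnit, fun _ => U, fun _ => 𝟙 U, ?_, fun _ => trivial⟩)
      φ ψ fun T hT g => ?_
    · rw [show Sieve.ofArrows (fun _ : PUnit.{u + 1} => U) (fun _ => 𝟙 U) = ⊤ from ?_]
      · exact J.top_mem U
      · rw [← Sieve.id_mem_iff_eq_top]
        exact ⟨U, 𝟙 U, 𝟙 U, ⟨PUnit.unit⟩, id_comp _⟩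
    · obtain ⟨⟨U, -⟩⟩ := hT
      have := congrArg (Sigma.ι (fun a : ι => ModSite.freeOn O a.1) ⟨U, g⟩ ≫ ·) h
      simpa using this
  zero X hX := ⟨PEmpty, fun e => e.elim, ⟨hX.iso (by
    rw [IsZero.iff_id_eq_zero]
    exact Sigma.hom_ext _ _ fun e => e.elim)⟩⟩
  biprod X Y := by
    rintro ⟨ι, U, ⟨e⟩⟩ ⟨κ, V, ⟨e'⟩⟩
    let W : ι ⊕ κ → C := Sum.elim U V
    refine ⟨ι ⊕ κ, W, ⟨biprod.mapIso e e' ≪≫ ?_⟩⟩
    exact biprodSigmaIso fun j => ModSite.freeOn O (W j)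
  iso X Y e := fun ⟨ι, U, ⟨e'⟩⟩ => ⟨ι, U, ⟨e.symm ≪≫ e'⟩⟩

end Groth.Agent.BddRes
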