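import Groth.Agent.BddRes.Step
import Mathlib.Algebra.Homology.Refinements
import Mathlib.Algebra.Homology.QuasiIso

/-!
# Relative resolutions of bounded above complexes
-/

universe v u

open CategoryTheory Category Limits

namespace Groth.Agent.BddRes

variable {A : Type u} [Category.{v} A] [Abelian A]
  {Pr : A → Prop} {K M : CochainComplex A ℤ} (f₀ : K ⟶ M)

theorem exists_rel_zero (hPr : Covers Pr) {i j : ℤ} (hij : i + 1 = j) (hK : IsZero (K.X i))
    (S : St Pr f₀ i) (hS : IsZero S.L) (hM : IsZero (M.X j)) (S' : St Pr f₀ j) (hS' : IsZero S'.L)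
    (hz : ∀ ⦃T : A⦄ (x : T ⟶ S.L), ∃ y : T ⟶ S.Z, y ≫ S.z = x)
    (hf : IsZero (M.X i)) : Rel Pr f₀ S S' 0 where
  next := hij
  comm := hM.eq_of_tgt _ _
  comm_K := hK.eq_of_src _ _
  fac := ⟨0, zero_comp⟩
  z_comp := comp_zero
  ker := fun T x _ => hz x
  lift := fun T m y _ => ⟨T, 𝟙 _, inferInstance, 0, hf.eq_of_tgt _ _, hS'.eq_of_tgt _ _⟩

variable (hPr : Covers Pr) (b : ℤ) (hK : ∀ i, b < i → IsZero (K.X i)) (hM : ∀ i, b < i → IsZero (M.X i))

include hPr hK hM in
/-- A compatible family of data in all degrees. -/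
theorem exists_family : ∃ (S : ∀ i, St Pr f₀ i) (d : ∀ i j, i + 1 = j → ((S i).L ⟶ (S j).L)),
    (∀ i j h, Rel Pr f₀ (S i) (S j) (d i j h)) ∧ ∀ i, b < i → IsZero (S i).L := by
  classical
  have hinit : ∀ i, b < i → ∃ S : St Pr f₀ i, IsZero S.L ∧ ∀ ⦃T : A⦄ (x : T ⟶ S.L), ∃ y : T ⟶ S.Z, y ≫ S.z = x := by
    intro i hi
    refine ⟨{ L := K.X i
              ℓ := 𝟙 _
              f := f₀.f i
              comp := id_comp _
              retr := ⟨𝟙 _, id_comp _⟩
              pr_coker := hPr.zero _ (IsZero.of_epi (cokernel.π (𝟙 (K.X i))) (hK i hi))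
              pr := fun h => h
              Z := K.X i
              z := 𝟙 _
              kz := fun j _ => ⟨K.d j i, rfl⟩
              zf := fun j _ => (hK i hi).eq_of_src _ _
              epi_f := ⟨fun a c _ => (hM i hi).eq_of_src a c⟩
              lift_cycles := fun j _ T m _ => ⟨T, 𝟙 _, inferInstance, 0, (hM i hi).eq_of_tgt _ _⟩ },
      hK i hi, fun T x => ⟨x, comp_id _⟩⟩
  choose I hI hIz using hinit
  choose stp d₀ hstp using fun (i j : ℤ) (h : i + 1 = j) (S' : St Pr f₀ j) => exists_step f₀ h S' hPr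
  let g : ∀ n : ℕ, St Pr f₀ (b + 1 - n) :=
    fun n => Nat.rec (motive := fun n => St Pr f₀ (b + 1 - (n : ℤ)))
      (I _ (by simp)) (fun m S => stp _ _ (by push_cast; omega) S) n
  let S : ∀ i, St Pr f₀ i := fun i =>
    if h : b < i then I i h else (show b + 1 - ((b + 1 - i).toNat : ℤ) = i by omega) ▸ g (b + 1 - i).toNat
  have hS : ∀ (n : ℕ) (i : ℤ) (hi : b + 1 - (n : ℤ) = i), S i = hi ▸ g n := by
    intro n i hi
    by_cases h : b < i
    · obtain rfl : n = 0 := by omega
      subst hi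
      simp only [S, dif_pos h]
      rfl
    · have hn : (b + 1 - i).toNat = n := by omega
      subst hn
      simp only [S, dif_neg h]
  have hrel : ∀ i j, i + 1 = j → ∃ d : (S i).L ⟶ (S j).L, Rel Pr f₀ (S i) (S j) d := by
    intro i j hij
    by_cases hi : b < i
    · have hj : b < j := by omega
      have e1 : S i = I i hi := dif_pos hi
      have e2 : S j = I j hj := dif_pos hj
      rw [e1, e2]
      exact ⟨0, exists_rel_zero f₀ hPr hij (hK i hi) _ (hI i hi) (hM j hj) _ (hI j hj) (hIz i hi) (hM i hi)⟩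
    · obtain ⟨n, hn⟩ : ∃ n : ℕ, b + 1 - (n : ℤ) = j := ⟨(b + 1 - j).toNat, by omega⟩
      rw [hS n j hn, hS (n + 1) i (by push_cast; omega)]
      subst hn
      obtain rfl : i = b + 1 - ((n + 1 : ℕ) : ℤ) := by push_cast; omega
      exact ⟨_, hstp _ _ hij (g n)⟩
  choose d hd using hrel
  refine ⟨S, d, hd, fun i hi => ?_⟩
  rw [show S i = I i hi from dif_pos hi]
  exact hI i hi

include hPr hK hM in
/-- A map of bounded above complexes factors as a termwise split injection with cokernels in the class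
followed by a termwise surjective quasi-isomorphism. -/
theorem exists_factor : ∃ (L : CochainComplex A ℤ) (ℓ : K ⟶ L) (f : L ⟶ M), ℓ ≫ f = f₀ ∧
    (∀ i, b < i → IsZero (L.X i)) ∧ QuasiIso f ∧ (∀ i, Epi (f.f i)) ∧
    (∀ i, Pr (K.X i) → Pr (L.X i)) ∧
    ∀ i, (∃ r : L.X i ⟶ K.X i, ℓ.f i ≫ r = 𝟙 _) ∧ Pr (cokernel (ℓ.f i)) := by
  classical
  obtain ⟨S, d, hd, hzero⟩ := exists_family f₀ hPr b hK hM
  have hdd : ∀ i, d i (i + 1) rfl ≫ d (i + 1) (i + 1 + 1) rfl = 0 := fun i => by
    obtain ⟨t, ht⟩ := (hd i (i + 1) rfl).fac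
    rw [← ht, assoc, (hd (i + 1) (i + 1 + 1) rfl).z_comp, comp_zero]
  let L : CochainComplex A ℤ := CochainComplex.of (fun i => (S i).L) (fun i => d i (i + 1) rfl) hdd
  have hLd : ∀ i j (h : i + 1 = j), L.d i j = d i j h := by
    rintro i _ rfl
    simp [L]
  let f : L ⟶ M :=
    { f := fun i => (S i).f
      comm' := fun i j (h : i + 1 = j) => by rw [hLd i j h]; exact (hd i j h).comm }
  let ℓ : K ⟶ L :=
    { f := fun i => (S i).ℓ
      comm' := fun i j (h : i + 1 = j) => by rw [hLd i j h]; exact (hd i j h).comm_K.symm }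
  refine ⟨L, ℓ, f, ?_, hzero, ?_, fun i => (S i).epi_f, fun i => (S i).pr,
    fun i => ⟨(S i).retr, (S i).pr_coker⟩⟩
  · ext i; exact (S i).comp
  rw [quasiIso_iff]
  intro i
  rw [quasiIsoAt_iff_isIso_homologyMap]
  have hprev : (ComplexShape.up ℤ).prev i = i - 1 := CochainComplex.prev ℤ i
  have hnext : (ComplexShape.up ℤ).next i = i + 1 := CochainComplex.next ℤ i
  haveI : Mono (HomologicalComplex.homologyMap f i) := by
    rw [HomologicalComplex.mono_homologyMap_iff_up_to_refinements f (i - 1) i (i + 1) hprev hnext]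
    intro T x hx y hxy
    rw [hLd i (i + 1) rfl] at hx
    obtain ⟨w, hw⟩ := (hd i (i + 1) rfl).ker x hx
    change x ≫ (S i).f = y ≫ M.d (i - 1) i at hxy
    obtain ⟨T', π, hπ, l, -, hl⟩ := (hd (i - 1) i (by omega)).lift y w (by rw [reassoc_of% hw]; exact hxy.symm)
    refine ⟨T', π, hπ, l, ?_⟩
    rw [hLd (i - 1) i (by omega), hl, hw]
  haveI : Epi (HomologicalComplex.homologyMap f i) := by
    rw [HomologicalComplex.epi_homologyMap_iff_up_to_refinements f (i - 1) i (i + 1) hprev hnext]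
    intro T y hy
    obtain ⟨T', π, hπ, l, hl⟩ := (S i).lift_cycles (i + 1) rfl y hy
    refine ⟨T', π, hπ, l ≫ (S i).z, ?_, 0, ?_⟩
    · rw [hLd i (i + 1) rfl, assoc, (hd i (i + 1) rfl).z_comp, comp_zero]
    · rw [zero_comp, add_zero, ← hl, assoc]
  exact isIso_of_mono_of_epi _

end Groth.Agent.BddRes
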