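import Mathlib.CategoryTheory.Abelian.Refinements
import Mathlib.Algebra.Homology.HomologicalComplex
import Mathlib.Algebra.Homology.Embedding.CochainComplex

/-!
# Relative resolutions of bounded above complexes: one step of the descending construction

Given `f₀ : K ⟶ M`, we build degree by degree, downwards, a complex `L` with `ℓ : K ⟶ L` and
`f : L ⟶ M` such that `Lⁱ ⟶ Mⁱ ×_{Mⁱ⁺¹} Zⁱ⁺¹(L)` is epi.
-/

universe v u

open CategoryTheory Category Limits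

namespace Groth.Agent.BddRes

variable {A : Type u} [Category.{v} A] [Abelian A]

/-- Every object is a quotient of an object of `Pr`, which is closed under the operations needed. -/
structure Covers (Pr : A → Prop) : Prop where
  cover : ∀ X : A, ∃ (P : A) (π : P ⟶ X), Epi π ∧ Pr P
  zero : ∀ X : A, IsZero X → Pr X
  biprod : ∀ X Y : A, Pr X → Pr Y → Pr (X ⊞ Y)
  iso : ∀ X Y : A, (X ≅ Y) → Pr X → Pr Y

variable (Pr : A → Prop) {K M : CochainComplex A ℤ} (f₀ : K ⟶ M)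

/-- The data in degree `i`. -/
structure St (i : ℤ) where
  L : A
  ℓ : K.X i ⟶ L
  f : L ⟶ M.X i
  comp : ℓ ≫ f = f₀.f i
  retr : ∃ r : L ⟶ K.X i, ℓ ≫ r = 𝟙 _
  pr_coker : Pr (cokernel ℓ)
  pr : Pr (K.X i) → Pr L
  Z : A
  z : Z ⟶ L
  kz : ∀ j : ℤ, j + 1 = i → ∃ t : K.X j ⟶ Z, t ≫ z = K.d j i ≫ ℓ
  zf : ∀ j : ℤ, i + 1 = j → z ≫ f ≫ M.d i j = 0
  epi_f : Epi f
  lift_cycles : ∀ j : ℤ, i + 1 = j → ∀ ⦃T : A⦄ (m : T ⟶ M.X i), m ≫ M.d i j = 0 →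
    ∃ (T' : A) (π : T' ⟶ T) (_ : Epi π) (l : T' ⟶ Z), l ≫ z ≫ f = π ≫ m

/-- Two consecutive degrees are compatible. -/
structure Rel {i j : ℤ} (S : St Pr f₀ i) (S' : St Pr f₀ j) (d : S.L ⟶ S'.L) : Prop where
  next : i + 1 = j
  comm : S.f ≫ M.d i j = d ≫ S'.f
  comm_K : K.d i j ≫ S'.ℓ = S.ℓ ≫ d
  fac : ∃ t : S.L ⟶ S'.Z, t ≫ S'.z = d
  z_comp : S.z ≫ d = 0
  ker : ∀ ⦃T : A⦄ (x : T ⟶ S.L), x ≫ d = 0 → ∃ y : T ⟶ S.Z, y ≫ S.z = x
  lift : ∀ ⦃T : A⦄ (m : T ⟶ M.X i) (y : T ⟶ S'.Z), m ≫ M.d i j = y ≫ S'.z ≫ S'.f →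
    ∃ (T' : A) (π : T' ⟶ T) (_ : Epi π) (l : T' ⟶ S.L), l ≫ S.f = π ≫ m ∧ l ≫ d = π ≫ y ≫ S'.z

variable {Pr} (hPr : Covers Pr)

include hPr in
theorem exists_init {i : ℤ} (hK : IsZero (K.X i)) (hM : IsZero (M.X i)) : Nonempty (St Pr f₀ i) :=
  ⟨{ L := K.X i
     ℓ := 𝟙 _
     f := f₀.f i
     comp := id_comp _
     retr := ⟨𝟙 _, id_comp _⟩
     pr_coker := hPr.zero _ (IsZero.of_epi (cokernel.π (𝟙 (K.X i))) hK)
     pr := fun h => h
     Z := K.X i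
     z := 𝟙 _
     kz := fun j _ => ⟨K.d j i, rfl⟩
     zf := fun j _ => hK.eq_of_src _ _
     epi_f := ⟨fun a b _ => hM.eq_of_src a b⟩
     lift_cycles := fun j _ T m _ => ⟨T, 𝟙 _, inferInstance, 0, hM.eq_of_tgt _ _⟩ }⟩

/-- The step. -/
theorem exists_step {i j : ℤ} (hij : i + 1 = j) (S' : St Pr f₀ j) (hPr : Covers Pr) :
    ∃ (S : St Pr f₀ i) (d : S.L ⟶ S'.L), Rel Pr f₀ S S' d := by
  let p₁ := pullback.fst (M.d i j) (S'.z ≫ S'.f)
  let p₂ := pullback.snd (M.d i j) (S'.z ≫ S'.f)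
  obtain ⟨P, q, hq, hP⟩ := hPr.cover (pullback (M.d i j) (S'.z ≫ S'.f))
  obtain ⟨t, ht⟩ := S'.kz i hij
  let w : K.X i ⊞ P ⟶ pullback (M.d i j) (S'.z ≫ S'.f) :=
    biprod.desc (pullback.lift (f₀.f i) t (by rw [reassoc_of% ht, S'.comp]; exact f₀.comm i j)) q
  haveI : Epi w := epi_of_epi_fac (biprod.inr_desc _ q : biprod.inr ≫ w = q)
  let f : K.X i ⊞ P ⟶ M.X i := w ≫ p₁
  let d : K.X i ⊞ P ⟶ S'.L := w ≫ p₂ ≫ S'.z
  have hfd : f ≫ M.d i j = d ≫ S'.f := by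
    simp only [f, d, p₁, p₂, assoc]; rw [pullback.condition]
  have hlift : ∀ ⦃T : A⦄ (m : T ⟶ M.X i) (y : T ⟶ S'.Z), m ≫ M.d i j = y ≫ S'.z ≫ S'.f →
      ∃ (T' : A) (π : T' ⟶ T) (_ : Epi π) (l : T' ⟶ K.X i ⊞ P), l ≫ f = π ≫ m ∧ l ≫ d = π ≫ y ≫ S'.z := by
    intro T m y h
    obtain ⟨T', π, hπ, l, hl⟩ := surjective_up_to_refinements_of_epi w (pullback.lift m y h)
    refine ⟨T', π, hπ, l, ?_, ?_⟩
    · show l ≫ w ≫ p₁ = _
      rw [← assoc, ← hl, assoc, pullback.lift_fst]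
    · show l ≫ w ≫ p₂ ≫ S'.z = _
      rw [← assoc, ← hl, assoc, pullback.lift_snd_assoc]
  have hcycles : ∀ j' : ℤ, i + 1 = j' → ∀ ⦃T : A⦄ (m : T ⟶ M.X i), m ≫ M.d i j' = 0 →
      ∃ (T' : A) (π : T' ⟶ T) (_ : Epi π) (l : T' ⟶ kernel d), l ≫ kernel.ι d ≫ f = π ≫ m := by
    intro j' hj' T m hm
    obtain rfl : j' = j := hj'.symm.trans hij
    obtain ⟨T', π, hπ, l, h1, h2⟩ := hlift m 0 (by rw [hm, zero_comp])
    refine ⟨T', π, hπ, kernel.lift d l (by rw [h2, zero_comp, comp_zero]), ?_⟩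
    rw [kernel.lift_ι_assoc, h1]
  haveI hf : Epi f := by
    rw [epi_iff_surjective_up_to_refinements]
    intro T m
    obtain ⟨T', π, hπ, y, hy⟩ := S'.lift_cycles (j + 1) rfl (m ≫ M.d i j) (by simp)
    obtain ⟨T'', π', hπ', l, h1, -⟩ := hlift (π ≫ m) y (by rw [assoc, hy])
    exact ⟨T'', π' ≫ π, epi_comp _ _, l, by rw [assoc, h1]⟩
  refine ⟨{ L := K.X i ⊞ P
            ℓ := biprod.inl
            f := f
            comp := by
              show biprod.inl ≫ w ≫ p₁ = _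
              rw [← assoc, biprod.inl_desc, pullback.lift_fst]
            retr := ⟨biprod.fst, biprod.inl_fst⟩
            pr_coker := hPr.iso _ _ (cokernelBiprodInlIso (X := K.X i) (Y := P)).symm hP
            pr := fun h => hPr.biprod _ _ h hP
            Z := kernel d
            z := kernel.ι d
            kz := fun k _ => ⟨kernel.lift d (K.d k i ≫ biprod.inl) (by
              simp only [d, w, p₂, assoc, biprod.inl_desc_assoc, pullback.lift_snd_assoc, ht,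
                HomologicalComplex.d_comp_d_assoc, zero_comp]), kernel.lift_ι _ _ _⟩
            zf := fun k hk => ?_
            epi_f := hf
            lift_cycles := hcycles }, d, ?_⟩
  · obtain rfl : k = j := hk.symm.trans hij
    rw [hfd, kernel.condition_assoc, zero_comp]
  · refine ⟨hij, hfd, ?_, ⟨w ≫ p₂, assoc _ _ _⟩, kernel.condition d, fun T x hx =>
      ⟨kernel.lift d x hx, kernel.lift_ι _ _ _⟩, hlift⟩
    simp only [d, w, p₂, biprod.inl_desc_assoc, pullback.lift_snd_assoc]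
    exact ht.symm

end Groth.Agent.BddRes
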