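import Groth.Agent.BddRes.Rel
import Groth.Agent.FlatCxLib.HomologyColim
import Mathlib.CategoryTheory.Functor.OfSequence
import Mathlib.CategoryTheory.Limits.Constructions.EventuallyConstant
import Mathlib.CategoryTheory.Abelian.GrothendieckCategory.Basic

/-!
# Compatible resolutions of all truncations
-/

universe v u

open CategoryTheory Category Limits ZeroObject

namespace Groth.Agent.BddRes

variable {A : Type u} [Category.{v} A] [Abelian A] (G : CochainComplex A ℤ)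

/-- The map between truncations. -/
noncomputable def tMap (a b : ℤ) (h : a ≤ b) : G.truncLE a ⟶ G.truncLE b :=
  haveI : IsIso ((G.truncLE a).ιTruncLE b) := by
    rw [CochainComplex.isIso_ιTruncLE_iff]
    exact CochainComplex.isStrictlyLE_of_le _ a b h
  inv ((G.truncLE a).ιTruncLE b) ≫ CochainComplex.truncLEMap (G.ιTruncLE a) b

theorem tMap_ι (a b : ℤ) (h : a ≤ b) : tMap G a b h ≫ G.ιTruncLE b = G.ιTruncLE a := by
  haveI : IsIso ((G.truncLE a).ιTruncLE b) := by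
    rw [CochainComplex.isIso_ιTruncLE_iff]
    exact CochainComplex.isStrictlyLE_of_le _ a b h
  rw [tMap, assoc, CochainComplex.ιTruncLE_naturality, IsIso.inv_hom_id_assoc]

/-- A resolution of one truncation. -/
structure Stage (Pr : A → Prop) (n : ℕ) where
  K : CochainComplex A ℤ
  π : K ⟶ G.truncLE ((n : ℤ) + 1)
  bounded : ∀ i : ℤ, (n : ℤ) + 1 < i → IsZero (K.X i)
  pr : ∀ i, Pr (K.X i)
  qis : QuasiIso π
  epi : ∀ i, Epi (π.f i)

variable {Pr : A → Prop} (hPr : Covers Pr)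

include hPr in
theorem exists_stage_zero : Nonempty (Stage G Pr 0) := by
  have hb : ∀ i : ℤ, (1 : ℤ) < i → IsZero ((G.truncLE 1).X i) := fun i hi =>
    CochainComplex.isZero_of_isStrictlyLE _ 1 i hi
  have hZ : ∀ i, IsZero ((0 : CochainComplex A ℤ).X i) := fun i =>
    Functor.map_isZero (HomologicalComplex.eval A (ComplexShape.up ℤ) i) (isZero_zero _)
  obtain ⟨L, ℓ, f, -, hL, hq, he, hp, -⟩ :=
    exists_factor (0 : (0 : CochainComplex A ℤ) ⟶ G.truncLE 1) hPr 1 (fun i _ => hZ i) hb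
  exact ⟨⟨L, f, fun i hi => hL i (by simpa using hi), fun i => hp i (hPr.zero _ (hZ i)), hq, he⟩⟩

include hPr in
theorem exists_stage_succ (n : ℕ) (s : Stage G Pr n) :
    ∃ (s' : Stage G Pr (n + 1)) (inc : s.K ⟶ s'.K),
      inc ≫ s'.π ≫ G.ιTruncLE (((n + 1 : ℕ) : ℤ) + 1) = s.π ≫ G.ιTruncLE ((n : ℤ) + 1) ∧
      ∀ i, (∃ r : s'.K.X i ⟶ s.K.X i, inc.f i ≫ r = 𝟙 _) ∧ Pr (cokernel (inc.f i)) := by
  obtain ⟨L, ℓ, f, hf, hL, hq, he, hp, hs⟩ :=
    exists_factor (s.π ≫ tMap G ((n : ℤ) + 1) (((n + 1 : ℕ) : ℤ) + 1) (by push_cast; omega)) hPr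
      (((n + 1 : ℕ) : ℤ) + 1) (fun i hi => s.bounded i (by push_cast at hi ⊢; omega))
      (fun i hi => CochainComplex.isZero_of_isStrictlyLE _ _ i hi)
  exact ⟨⟨L, f, hL, fun i => hp i (s.pr i), hq, he⟩, ℓ, by rw [reassoc_of% hf, tMap_ι], hs⟩

include hPr in
/-- Compatible resolutions of all truncations, whose colimit resolves the complex. -/
theorem exists_tower [IsGrothendieckAbelian.{v} A] :
    ∃ (Kc : ℕ ⥤ CochainComplex A ℤ) (π : ∀ n : ℕ, Kc.obj n ⟶ G.truncLE ((n : ℤ) + 1)),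
      (∀ n : ℕ, Kc.map (homOfLE (Nat.le_succ n)) ≫ π (n + 1) ≫ G.ιTruncLE (((n + 1 : ℕ) : ℤ) + 1) =
        π n ≫ G.ιTruncLE ((n : ℤ) + 1)) ∧
      (∀ n : ℕ, QuasiIso (π n) ∧ ∀ i : ℤ, Epi ((π n).f i)) ∧
      (∀ (n : ℕ) (i : ℤ), (n : ℤ) + 1 < i → IsZero ((Kc.obj n).X i)) ∧
      (∀ (n : ℕ) (i : ℤ), Pr ((Kc.obj n).X i)) ∧
      (∀ (n : ℕ) (i : ℤ), ∃ r : (Kc.obj (n + 1)).X i ⟶ (Kc.obj n).X i,
        (Kc.map (homOfLE (Nat.le_succ n))).f i ≫ r = 𝟙 _ ∧
          Pr (cokernel ((Kc.map (homOfLE (Nat.le_succ n))).f i))) ∧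
      ∃ c : colimit Kc ⟶ G, (∀ n : ℕ, colimit.ι Kc n ≫ c = π n ≫ G.ιTruncLE ((n : ℤ) + 1)) ∧
        QuasiIso c := by
  obtain ⟨s₀⟩ := exists_stage_zero G hPr
  choose nxt inc hinc hs using exists_stage_succ G hPr
  let s : ∀ n, Stage G Pr n := fun n => Nat.rec s₀ (fun m t => nxt m t) n
  let Kc : ℕ ⥤ CochainComplex A ℤ := Functor.ofSequence (fun n => inc n (s n))
  have hmap : ∀ n, Kc.map (homOfLE (Nat.le_succ n)) = inc n (s n) := fun n =>
    Functor.ofSequence_map_homOfLE_succ _ n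
  let α : Kc ⟶ (Functor.const ℕ).obj G := NatTrans.ofSequence (fun n => (s n).π ≫ G.ιTruncLE ((n : ℤ) + 1))
    (fun n => by
      dsimp
      rw [comp_id]
      exact ((congrArg (· ≫ _) (hmap n)).trans (hinc n (s n))))
  let c : colimit Kc ⟶ G := colimit.desc Kc ⟨G, α⟩
  have hc : ∀ n, colimit.ι Kc n ≫ c = (s n).π ≫ G.ιTruncLE ((n : ℤ) + 1) := fun n => colimit.ι_desc _ n
  refine ⟨Kc, fun n => (s n).π, fun n => by rw [hmap]; exact hinc n (s n), fun n => ⟨(s n).qis, (s n).epi⟩,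
    fun n => (s n).bounded, fun n => (s n).pr, fun n i => ?_, c, hc, ?_⟩
  · obtain ⟨⟨r, hr⟩, hp⟩ := hs n (s n) i
    rw [hmap]
    exact ⟨r, hr, hp⟩
  rw [quasiIso_iff]
  intro i
  rw [quasiIsoAt_iff_isIso_homologyMap]
  haveI : HasFilteredColimitsOfSize.{0, 0} A := hasFilteredColimitsOfSize_of_univLE.{0, 0, v, v}
  haveI : AB5OfSize.{0, 0} A := AB5OfSize_of_univLE.{0, 0, v, v} A
  let H := HomologicalComplex.homologyFunctor A (ComplexShape.up ℤ) i
  haveI := FlatCxLib.preservesColimitsOfShape_complexHomology (C := A) (J := ℕ) (ComplexShape.up ℤ) i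
  have hiso : ∀ n : ℕ, i ≤ (n : ℤ) + 1 → IsIso (H.map (colimit.ι Kc n) ≫ H.map c) := fun n hn => by
    haveI := (s n).qis
    have e : H.map (colimit.ι Kc n) ≫ H.map c = H.map (s n).π ≫ H.map (G.ιTruncLE ((n : ℤ) + 1)) :=
      (H.map_comp _ _).symm.trans ((congrArg H.map (hc n)).trans (H.map_comp _ _))
    rw [e]
    haveI : IsIso (H.map (G.ιTruncLE ((n : ℤ) + 1))) :=
      (quasiIsoAt_iff_isIso_homologyMap _ _).1 (CochainComplex.quasiIsoAt_ιTruncLE G _ i hn)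
    haveI : IsIso (H.map (s n).π) := (quasiIsoAt_iff_isIso_homologyMap _ _).1 inferInstance
    exact @IsIso.comp_isIso _ _ _ _ _ _ _ ‹IsIso (H.map (s n).π)› ‹IsIso (H.map (G.ιTruncLE ((n : ℤ) + 1)))›
  let N : ℕ := i.toNat
  have hev : (Kc ⋙ H).IsEventuallyConstantFrom N := fun m φ => by
    have e : (Kc ⋙ H).map φ ≫ H.map (colimit.ι Kc m) ≫ H.map c = H.map (colimit.ι Kc N) ≫ H.map c := by
      rw [Functor.comp_map, ← H.map_comp_assoc, colimit.w]
    haveI := hiso N (by omega)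
    haveI := hiso m (by have := leOfHom φ; omega)
    haveI : IsIso ((Kc ⋙ H).map φ ≫ H.map (colimit.ι Kc m) ≫ H.map c) := by rw [e]; infer_instance
    exact IsIso.of_isIso_comp_right _ (H.map (colimit.ι Kc m) ≫ H.map c)
  haveI : IsIso (H.map (colimit.ι Kc N)) :=
    hev.isIso_ι_of_isColimit (isColimitOfPreserves H (colimit.isColimit Kc))
  haveI := hiso N (by omega)
  exact IsIso.of_isIso_comp_left (H.map (colimit.ι Kc N)) (H.map c)

end Groth.Agent.BddRes
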